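import Groth.Prelude.Def_CohProp
import Groth.Prelude.Def_EtOpen
import Groth.Agent.Lib.EtRepSh.Basic
import Groth.Agent.Lib.EtSite.Points
import Groth.Agent.Lib.SGA1Quot21.SigmaFinite
import Mathlib.CategoryTheory.Sites.LocallyBijective
import Mathlib.CategoryTheory.Sites.Over
import Mathlib.AlgebraicGeometry.Limits

/-!
# Constant sheaves of sets with finite value are represented by trivial covers

Two sheaves receiving locally bijective maps from the same presheaf are isomorphic; the constant
sheaf with value `Fin n` is the sheaf of the trivial cover with `n` sheets.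
-/

set_option autoImplicit false
set_option backward.isDefEq.respectTransparency false
set_option backward.isDefEq.respectTransparency.types false

universe w v u

open CategoryTheory CategoryTheory.Limits AlgebraicGeometry Opposite
open GrothLib.EtSite GrothLib.EtRepSh

noncomputable section

namespace GrothLib.FLCRep18

section General

variable {C : Type v} [Category.{w} C] {J : GrothendieckTopology C}
  {A : Type*} [Category A]

/-- Two sheaves under a presheaf, both local for it, are isomorphic. -/
theorem nonempty_iso_of_W {P : Cᵒᵖ ⥤ A} {G H : Sheaf J A} (α : P ⟶ G.obj) (β : P ⟶ H.obj)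
    (hα : J.W α) (hβ : J.W β) : Nonempty (G ≅ H) := by
  obtain ⟨a, ha⟩ := (hα H.obj H.property).2 β
  obtain ⟨b, hb⟩ := (hβ G.obj G.property).2 α
  replace ha : α ≫ a = β := ha
  replace hb : β ≫ b = α := hb
  refine ⟨⟨ObjectProperty.homMk a, ObjectProperty.homMk b, ?_, ?_⟩⟩ <;> apply ObjectProperty.hom_ext
  · refine (hα G.obj G.property).1 (a₁ := a ≫ b) (a₂ := 𝟙 _) ?_
    show α ≫ a ≫ b = α ≫ 𝟙 _
    rw [Category.comp_id, reassoc_of% ha, hb]
  · refine (hβ H.obj H.property).1 (a₁ := b ≫ a) (a₂ := 𝟙 _) ?_
    show β ≫ b ≫ a = β ≫ 𝟙 _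
    rw [Category.comp_id, reassoc_of% hb, ha]

end General

variable {X : Scheme.{u}} {P Q : X.Etaleᵒᵖ ⥤ Type (u + 1)} (U : X.Etale) (α : P ⟶ Q)

/-- Local injectivity passes to a slice. -/
theorem isLocallyInjective_over [Presheaf.IsLocallyInjective X.smallEtaleTopology α] :
    Presheaf.IsLocallyInjective (X.smallEtaleTopology.over U)
      (Functor.whiskerLeft (Over.forget U).op α) where
  equalizerSieve_mem {T} x y h := by
    rw [GrothendieckTopology.mem_over_iff]
    refine X.smallEtaleTopology.superset_covering ?_
      (Presheaf.equalizerSieve_mem X.smallEtaleTopology α (X := op T.unop.left) x y h)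
    intro V g hg
    exact (Sieve.overEquiv_iff _ g).2 hg

/-- Local surjectivity passes to a slice. -/
theorem isLocallySurjective_over [Presheaf.IsLocallySurjective X.smallEtaleTopology α] :
    Presheaf.IsLocallySurjective (X.smallEtaleTopology.over U)
      (Functor.whiskerLeft (Over.forget U).op α) where
  imageSieve_mem {T} s := by
    rw [GrothendieckTopology.mem_over_iff]
    refine X.smallEtaleTopology.superset_covering ?_
      (Presheaf.imageSieve_mem X.smallEtaleTopology α (U := op T.left) s)
    intro V g hg
    exact (Sieve.overEquiv_iff _ g).2 hg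

section Triv

variable (X)

/-- The trivial cover with `n` sheets. -/
abbrev trivHom (n : ℕ) : (∐ fun _ : Fin n => X) ⟶ X := Sigma.desc fun _ => 𝟙 X

instance isFinite_trivHom (n : ℕ) : IsFinite (trivHom X n) :=
  GrothLib.SGA1Quot21.isFinite_sigmaDesc_fin n _ _ fun _ => inferInstance

instance etale_trivHom (n : ℕ) : Etale (trivHom X n) := by
  refine (IsZariskiLocalAtSource.iff_of_openCover (sigmaOpenCover fun _ : Fin n => X)).2 fun i => ?_
  change Etale (Sigma.ι (fun _ : Fin n => X) i ≫ trivHom X n)
  rw [Sigma.ι_desc]; infer_instance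

/-- The trivial cover with `n` sheets, in the small étale site. -/
abbrev triv (n : ℕ) : X.Etale := Scheme.Etale.mk (trivHom X n)

variable {X}

theorem ι_trivHom (n : ℕ) (m : Fin n) : Sigma.ι (fun _ : Fin n => X) m ≫ trivHom X n = 𝟙 X :=
  Sigma.ι_desc _ _

/-- The structure map. -/
abbrev str (T : X.Etale) : T.left ⟶ X := T.hom

theorem w_str {T T' : X.Etale} (g : T' ⟶ T) : g.left ≫ str T = str T' := Over.w g.hom

/-- A point of the trivial cover. -/
def sheet (n : ℕ) (m : Fin n) (T : X.Etale) : T ⟶ triv X n :=
  MorphismProperty.Over.homMk (str T ≫ Sigma.ι (fun _ : Fin n => X) m)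
    ((Category.assoc _ _ _).trans ((congrArg (str T ≫ ·) (ι_trivHom n m)).trans (Category.comp_id _)))

theorem sheet_left (n : ℕ) (m : Fin n) (T : X.Etale) :
    (sheet n m T).left = str T ≫ Sigma.ι (fun _ : Fin n => X) m := rfl

theorem comp_sheet (n : ℕ) (m : Fin n) {T T' : X.Etale} (g : T' ⟶ T) :
    g ≫ sheet n m T = sheet n m T' := by
  apply MorphismProperty.Over.Hom.ext
  rw [MorphismProperty.Comma.comp_left, sheet_left, sheet_left, ← Category.assoc, w_str]

/-- The map from the constant presheaf to the trivial cover. -/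
def cmap (n : ℕ) : (Functor.const X.Etaleᵒᵖ).obj (ULift.{u + 1} (Fin n)) ⟶ repPsh (triv X n) where
  app T := ↾fun m => ULift.up (sheet n m.down T.unop)
  naturality T T' g := by
    ext m
    exact congrArg ULift.up (comp_sheet n m.down g.unop).symm

instance isLocallyInjective_cmap (n : ℕ) :
    Presheaf.IsLocallyInjective X.smallEtaleTopology (cmap (X := X) n) where
  equalizerSieve_mem {T} x y h := by
    by_cases hxy : x = y
    · subst hxy
      rw [Presheaf.equalizerSieve_self_eq_top]; exact X.smallEtaleTopology.top_mem _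
    rw [mem_topology_iff]
    intro t
    exfalso
    have hne : x.down ≠ y.down := fun e => hxy (ULift.down_injective e)
    have h' : (sheet n x.down T.unop).left t = (sheet n y.down T.unop).left t := by
      have := congrArg (fun k => (ULift.down k).left) h
      exact congrArg (fun k : T.unop.left ⟶ _ => k t) this
    rw [sheet_left, sheet_left, Scheme.Hom.comp_apply, Scheme.Hom.comp_apply] at h'
    exact (disjoint_opensRange_sigmaι (fun _ : Fin n => X) _ _ hne).le_bot
      ⟨⟨str T.unop t, rfl⟩, ⟨str T.unop t, h'.symm⟩⟩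

instance isLocallySurjective_cmap (n : ℕ) :
    Presheaf.IsLocallySurjective X.smallEtaleTopology (cmap (X := X) n) where
  imageSieve_mem {T} s := by
    rw [mem_topology_iff]
    intro t
    obtain ⟨g⟩ := s
    obtain ⟨m, z, hz⟩ := (sigmaOpenCover fun _ : Fin n => X).exists_eq (g.left t)
    let ι' := Sigma.ι (fun _ : Fin n => X) m
    let V : T.left.Opens := g.left ⁻¹ᵁ ι'.opensRange
    let k : V.toScheme ⟶ X := IsOpenImmersion.lift ι' (V.ι ≫ g.left) (by
      rintro _ ⟨v, rfl⟩
      exact v.2)
    have hk : k ≫ ι' = V.ι ≫ g.left := IsOpenImmersion.lift_fac _ _ _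
    have hk' : k = V.ι ≫ T.hom := by
      have h1 := congrArg (· ≫ trivHom X n) hk
      simp only [Category.assoc, ι', trivHom, Sigma.ι_desc, Category.comp_id] at h1
      rw [h1]; congr 1; exact w_str g
    let W : X.Etale := Scheme.Etale.mk (V.ι ≫ T.hom)
    let j : W ⟶ T := MorphismProperty.Over.homMk V.ι rfl
    refine ⟨W, j, ⟨t, ⟨z, hz⟩⟩, ⟨⟨m⟩, ?_⟩, rfl⟩
    refine congrArg ULift.up (MorphismProperty.Over.Hom.ext ?_)
    change str W ≫ ι' = V.ι ≫ g.left
    rw [← hk, hk']
    rfl

end Triv

/-- Constant presheaves with finite value, after renaming the value. -/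
def constEquiv {M M' : Type (u + 1)} (e : M ≃ M') {D : Type*} [Category D] :
    (Functor.const D).obj M ≅ (Functor.const D).obj M' :=
  (Functor.const D).mapIso e.toIso

variable (X)

/-- The constant sheaf with a finite value is a trivial cover. -/
theorem constSh_iso_triv (M : Type (u + 1)) [Finite M] :
    Nonempty (CohProp.constSh X M ≅ repSheaf (triv X (Nat.card M))) := by
  let e : M ≃ ULift.{u + 1} (Fin (Nat.card M)) := (Finite.equivFin M).trans Equiv.ulift.symm
  refine nonempty_iso_of_W (P := (Functor.const _).obj M)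
    (toSheafify X.smallEtaleTopology ((Functor.const _).obj M))
    ((constEquiv e).hom ≫ cmap (Nat.card M)) (X.smallEtaleTopology.W_toSheafify _) ?_
  exact MorphismProperty.RespectsIso.precomp _ (constEquiv e).hom _
    (X.smallEtaleTopology.W_of_isLocallyBijective _)

/-- The trivial cover on a slice, from any locally bijective map out of the constant presheaf. -/
theorem over_iso_triv (G : EtDesc.Sh X) (U : X.Etale) {M : Type (u + 1)} [Finite M]
    (α : (Functor.const (Over U)ᵒᵖ).obj M ⟶ (Over.forget U).op ⋙ G.obj)
    (hα : (X.smallEtaleTopology.over U).W α) :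
    Nonempty (G.over U ≅ (repSheaf (triv X (Nat.card M))).over U) := by
  let e : M ≃ ULift.{u + 1} (Fin (Nat.card M)) := (Finite.equivFin M).trans Equiv.ulift.symm
  have := isLocallyInjective_over U (cmap (X := X) (Nat.card M))
  have := isLocallySurjective_over U (cmap (X := X) (Nat.card M))
  refine nonempty_iso_of_W (G := G.over U) (H := (repSheaf (triv X (Nat.card M))).over U) α
    ((constEquiv e).hom ≫ (Functor.whiskerLeft (Over.forget U).op (cmap (Nat.card M)))) hα ?_
  exact MorphismProperty.RespectsIso.precomp _ (constEquiv e).hom _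
    ((X.smallEtaleTopology.over U).W_of_isLocallyBijective
      (Functor.whiskerLeft (Over.forget U).op (cmap (X := X) (Nat.card M))))

end GrothLib.FLCRep18
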