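import Groth.Agent.Lib.FLCRep18.Const
import Groth.Agent.Lib.SchEffective.Affine
import Groth.Agent.Lib.AlgSp.AffineDescent
import Groth.Agent.Lib.FEt21.EtaleLocal

/-!
# Sheaves locally isomorphic to trivial covers are represented by finite étale schemes

On each member the sheaf has a universal section over a finite étale cover; uniqueness gives the
descent datum, which is effective as the covers are affine over the members.
-/

set_option autoImplicit false
set_option backward.isDefEq.respectTransparency false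
set_option backward.isDefEq.respectTransparency.types false
set_option linter.style.haveILetI false

universe u

open CategoryTheory CategoryTheory.Limits AlgebraicGeometry Opposite Desc
open GrothLib.EtSite GrothLib.EtRepSh

noncomputable section

namespace GrothLib.FLCRep18

variable {X : Scheme.{u}}

/-- Pullback of a section. -/
abbrev res (G : EtDesc.Sh X) {T T' : X.Etale} (g : T' ⟶ T) (s : G.obj.obj (op T)) : G.obj.obj (op T') :=
  G.obj.map g.op s

theorem res_res (G : EtDesc.Sh X) {T T' T'' : X.Etale} (g : T' ⟶ T) (h : T'' ⟶ T')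
    (s : G.obj.obj (op T)) : res G h (res G g s) = res G (h ≫ g) s := by
  simp [res, op_comp, Functor.map_comp]

theorem hom_left {T T' : X.Etale} {g h : T' ⟶ T} (e : g.left = h.left) : g = h :=
  MorphismProperty.Over.Hom.ext e

/-- `a` is the universal section of `G` on objects over `U`. -/
def IsUniv (G : EtDesc.Sh X) {U A : X.Etale} (π : A ⟶ U) (a : G.obj.obj (op A)) : Prop :=
  ∀ T : X.Etale, Function.Bijective fun g : T ⟶ A => (g ≫ π, res G g a)

theorem exists_univ (G : EtDesc.Sh X) (U : X.Etale) (n : ℕ)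
    (e : G.over U ≅ (repSheaf (triv X n)).over U) :
    ∃ (A : X.Etale) (π : A ⟶ U) (a : G.obj.obj (op A)), IsFinite π.left ∧ IsUniv G π a := by
  haveI : Etale (str U) := U.prop
  let A : X.Etale := Scheme.Etale.mk (pullback.fst (str U) (trivHom X n) ≫ str U)
  let π : A ⟶ U := MorphismProperty.Over.homMk (pullback.fst (str U) (trivHom X n)) rfl
  let q : A ⟶ triv X n := MorphismProperty.Over.homMk (pullback.snd (str U) (trivHom X n))
    pullback.condition.symm
  let a : G.obj.obj (op A) := e.inv.hom.app (op (Over.mk π)) (ULift.up q : (repPsh (triv X n)).obj (op A))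
  have key : ∀ {T : X.Etale} (g : T ⟶ A) (x : T ⟶ U), g ≫ π = x →
      res G g a = e.inv.hom.app (op (Over.mk x)) (ULift.up (g ≫ q) : (repPsh (triv X n)).obj (op T)) :=
    fun {T} g x hx => (NatTrans.naturality_apply e.inv.hom (Over.homMk g hx : Over.mk x ⟶ Over.mk π).op
      (ULift.up q : (repPsh (triv X n)).obj (op A))).symm
  refine ⟨A, π, a, (inferInstance : IsFinite (pullback.fst (str U) (trivHom X n))), fun T => ⟨?_, ?_⟩⟩
  · intro g g' hgg
    simp only [Prod.mk.injEq] at hgg
    obtain ⟨h1, h2⟩ := hgg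
    rw [key g _ rfl, key g' _ h1.symm] at h2
    have h3 := congrArg (fun z => e.hom.hom.app (op (Over.mk (g ≫ π))) z) h2
    have hid : ∀ z, e.hom.hom.app (op (Over.mk (g ≫ π))) (e.inv.hom.app (op (Over.mk (g ≫ π))) z) = z :=
      fun z => congrArg (fun k => k.hom.app (op (Over.mk (g ≫ π))) z) e.inv_hom_id
    simp only [hid] at h3
    exact hom_left (pullback.hom_ext (congrArg (fun k : T ⟶ U => k.left) h1)
      (congrArg (fun k : T ⟶ triv X n => k.left) (congrArg ULift.down h3)))
  · rintro ⟨x, s⟩
    let c := e.hom.hom.app (op (Over.mk x)) s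
    let g : T ⟶ A := MorphismProperty.Over.homMk
      (pullback.lift x.left (ULift.down c).left ((w_str x).trans (w_str (ULift.down c)).symm)) (by
        show pullback.lift _ _ _ ≫ pullback.fst _ _ ≫ str U = str T
        rw [pullback.lift_fst_assoc]; exact w_str x)
    have hx : g ≫ π = x := hom_left (pullback.lift_fst _ _ _)
    have hq : g ≫ q = ULift.down c := hom_left (pullback.lift_snd _ _ _)
    refine ⟨g, Prod.ext hx ?_⟩
    show res G g a = s
    rw [key g x hx, hq]
    exact congrArg (fun k => k.hom.app (op (Over.mk x)) s) e.hom_inv_id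

section Descent

variable {G : EtDesc.Sh X} {ι : Type u} {U A : ι → X.Etale} {π : ∀ i, A i ⟶ U i}
  {a : ∀ i, G.obj.obj (op (A i))} (huniv : ∀ i, IsUniv G (π i) (a i))

instance (i : ι) : Etale (str (U i)) := (U i).prop
instance (i : ι) : Etale (str (A i)) := (A i).prop

variable (U A) in
/-- The overlap of a local model with a member. -/
abbrev rel (i j : ι) : X.Etale := Scheme.Etale.mk (pullback.fst (str (A i)) (str (U j)) ≫ str (A i))

variable (U A) in
abbrev rfst (i j : ι) : rel U A i j ⟶ A i :=
  MorphismProperty.Over.homMk (pullback.fst (str (A i)) (str (U j))) rfl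

variable (U A) in
abbrev rsnd (i j : ι) : rel U A i j ⟶ U j :=
  MorphismProperty.Over.homMk (pullback.snd (str (A i)) (str (U j))) pullback.condition.symm

include huniv in
theorem exists_trans (i j : ι) :
    ∃ s : rel U A i j ⟶ A j, s ≫ π j = rsnd U A i j ∧ res G s (a j) = res G (rfst U A i j) (a i) := by
  obtain ⟨s, hs⟩ := (huniv j _).2 (rsnd U A i j, res G (rfst U A i j) (a i))
  exact ⟨s, congrArg Prod.fst hs, congrArg Prod.snd hs⟩

variable (s : ∀ i j, rel U A i j ⟶ A j) (hs : ∀ i j, s i j ≫ π j = rsnd U A i j)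
  (hs' : ∀ i j, res G (s i j) (a j) = res G (rfst U A i j) (a i))
include huniv hs hs'

omit huniv hs' in
theorem σ_snd (i j : ι) : (s i j).left ≫ (π j).left = pullback.snd (str (A i)) (str (U j)) :=
  congrArg (fun k : rel U A i j ⟶ U j => k.left) (hs i j)

omit huniv hs' in
theorem cond_of {T : Scheme.{u}} {i j : ι} {x₀ : T ⟶ (U i).left} {x₁ : T ⟶ (U j).left}
    (h : x₀ ≫ str (U i) = x₁ ≫ str (U j)) (v : Lifts (Over.mk (π i).left) x₀) :
    v.1 ≫ str (A i) = x₁ ≫ str (U j) := by
  rw [← w_str (π i), ← h]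
  exact (Category.assoc _ _ _).symm.trans (congrArg (· ≫ str (U i)) v.2)

theorem diag_trans (i : ι) :
    pullback.lift (𝟙 _) (π i).left ((Category.id_comp _).trans (w_str (π i)).symm) ≫ (s i i).left = 𝟙 _ := by
  let d : A i ⟶ rel U A i i := MorphismProperty.Over.homMk
    (pullback.lift (𝟙 _) (π i).left ((Category.id_comp _).trans (w_str (π i)).symm)) (by
      show pullback.lift _ _ _ ≫ pullback.fst _ _ ≫ str (A i) = str (A i)
      rw [pullback.lift_fst_assoc, Category.id_comp])
  have h : d ≫ s i i = 𝟙 (A i) := by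
    refine (huniv i _).1 (Prod.ext ?_ ?_)
    · show (d ≫ s i i) ≫ π i = 𝟙 _ ≫ π i
      rw [Category.assoc, hs, Category.id_comp]
      exact hom_left (pullback.lift_snd _ _ _)
    · show res G (d ≫ s i i) (a i) = res G (𝟙 _) (a i)
      rw [← res_res, hs', res_res]
      congr 1
      exact hom_left (pullback.lift_fst _ _ _)
  exact congrArg (fun k : A i ⟶ A i => k.left) h

theorem cocycle {T : Scheme.{u}} {i j k : ι} (v : T ⟶ (A i).left) (x₁ : T ⟶ (U j).left)
    (x₂ : T ⟶ (U k).left)
    (h₁ : v ≫ str (A i) = x₁ ≫ str (U j)) (h₁₂ : x₁ ≫ str (U j) = x₂ ≫ str (U k)) :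
    pullback.lift (pullback.lift v x₁ h₁ ≫ (s i j).left) x₂ (by
        rw [Category.assoc, w_str (s i j)]
        show pullback.lift v x₁ h₁ ≫ pullback.fst _ _ ≫ str (A i) = _
        rw [pullback.lift_fst_assoc, h₁, h₁₂]) ≫ (s j k).left =
      pullback.lift v x₂ (h₁.trans h₁₂) ≫ (s i k).left := by
  haveI : Etale (str (rel U A i j)) := (rel U A i j).prop
  let Z : X.Etale := Scheme.Etale.mk (pullback.fst (str (rel U A i j)) (str (U k)) ≫ str (rel U A i j))
  let pZ : Z ⟶ rel U A i j :=
    MorphismProperty.Over.homMk (pullback.fst (str (rel U A i j)) (str (U k))) rfl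
  let r₁ : Z ⟶ rel U A j k := MorphismProperty.Over.homMk
    (pullback.lift (pZ.left ≫ (s i j).left) (pullback.snd _ _)
      (by rw [Category.assoc, w_str (s i j)]; exact pullback.condition)) (by
      show pullback.lift _ _ _ ≫ pullback.fst _ _ ≫ str (A j) = pZ.left ≫ str (rel U A i j)
      rw [pullback.lift_fst_assoc, Category.assoc, w_str (s i j)])
  let r₂ : Z ⟶ rel U A i k := MorphismProperty.Over.homMk
    (pullback.lift (pZ.left ≫ pullback.fst _ _) (pullback.snd _ _)
      (by rw [Category.assoc]; exact pullback.condition)) (by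
      show pullback.lift _ _ _ ≫ pullback.fst _ _ ≫ str (A i) = pZ.left ≫ str (rel U A i j)
      rw [pullback.lift_fst_assoc, Category.assoc]; rfl)
  have key : r₁ ≫ s j k = r₂ ≫ s i k := by
    refine (huniv k _).1 (Prod.ext ?_ ?_)
    · show (r₁ ≫ s j k) ≫ π k = (r₂ ≫ s i k) ≫ π k
      rw [Category.assoc, hs, Category.assoc, hs]
      exact hom_left ((pullback.lift_snd _ _ _).trans (pullback.lift_snd _ _ _).symm)
    · show res G (r₁ ≫ s j k) (a k) = res G (r₂ ≫ s i k) (a k)
      rw [← res_res, hs', res_res, ← res_res G (s i k), hs', res_res]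
      rw [show r₁ ≫ rfst U A j k = pZ ≫ s i j from hom_left (pullback.lift_fst _ _ _),
        show r₂ ≫ rfst U A i k = pZ ≫ rfst U A i j from hom_left (pullback.lift_fst _ _ _),
        ← res_res, hs', res_res]
  let l : T ⟶ Z.left := pullback.lift (pullback.lift v x₁ h₁) x₂ (by
    show pullback.lift v x₁ h₁ ≫ pullback.fst _ _ ≫ str (A i) = _
    rw [pullback.lift_fst_assoc, h₁, h₁₂])
  have hk := congrArg (fun t : Z ⟶ A k => l ≫ t.left) key
  replace hk : l ≫ r₁.left ≫ (s j k).left = l ≫ r₂.left ≫ (s i k).left := hk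
  simp only [← Category.assoc] at hk
  refine Eq.trans ?_ (hk.trans ?_)
  · congr 1
    apply pullback.hom_ext <;> simp [l, r₁, pZ]
  · congr 1
    apply pullback.hom_ext <;> simp [l, r₂, pZ]

/-- The descent datum of the local models. -/
def localDD : SchDDFam fun i => str (U i) where
  obj i := Over.mk (π i).left
  φ T i j x₀ x₁ h :=
    { toFun := fun v => ⟨pullback.lift v.1 x₁ (cond_of s hs h v) ≫ (s i j).left, by
        simp only [Over.mk_hom, Category.assoc, σ_snd s hs i j, pullback.lift_snd]⟩
      invFun := fun v => ⟨pullback.lift v.1 x₀ (cond_of s hs h.symm v) ≫ (s j i).left, by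
        simp only [Over.mk_hom, Category.assoc, σ_snd s hs j i, pullback.lift_snd]⟩
      left_inv := fun v => Subtype.ext (by
        refine (cocycle huniv s hs hs' v.1 x₁ x₀ (cond_of s hs h v) h.symm).trans ?_
        have hv := v.2
        simp only [Over.mk_hom] at hv
        refine Eq.trans ?_ ((congrArg (fun t => v.1 ≫ t) (diag_trans huniv s hs hs' i)).trans (Category.comp_id v.1))
        refine Eq.trans ?_ (Category.assoc _ _ _)
        congr 1
        apply pullback.hom_ext <;> simp [hv])
      right_inv := fun v => Subtype.ext (by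
        refine (cocycle huniv s hs hs' v.1 x₀ x₁ (cond_of s hs h.symm v) h).trans ?_
        have hv := v.2
        simp only [Over.mk_hom] at hv
        refine Eq.trans ?_ ((congrArg (fun t => v.1 ≫ t) (diag_trans huniv s hs hs' j)).trans (Category.comp_id v.1))
        refine Eq.trans ?_ (Category.assoc _ _ _)
        congr 1
        apply pullback.hom_ext <;> simp [hv]) }
  φ_natural T T' k i j x₀ x₁ h y₀ y₁ hy₀ hy₁ h' v v' hv' := by
    simp only [Equiv.coe_fn_mk, ← Category.assoc]
    congr 1
    apply pullback.hom_ext <;> simp [hv', hy₁]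
  φ_self T i x v := Subtype.ext (by
    have hv := v.2
    simp only [Over.mk_hom] at hv
    simp only [Equiv.coe_fn_mk]
    refine Eq.trans ?_ ((congrArg (fun t => v.1 ≫ t) (diag_trans huniv s hs hs' i)).trans (Category.comp_id v.1))
    refine Eq.trans ?_ (Category.assoc _ _ _)
    congr 1
    apply pullback.hom_ext <;> simp [hv])
  φ_comp T i j k x₀ x₁ x₂ h₀₁ h₁₂ v := Subtype.ext
    (cocycle huniv s hs hs' v.1 x₁ x₂ (cond_of s hs h₀₁ v) h₁₂)

omit hs hs'

/-- A sheaf with universal finite sections on a covering is represented by a finite étale scheme. -/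
theorem exists_finite_iso_of_univ (hcov : EtCoh.Covers U) (hfin : ∀ i, IsFinite (π i).left) :
    ∃ (V : X.Etale) (_ : IsFinite V.hom), Nonempty (repSheaf V ≅ G) := by
  choose s hs hs' using exists_trans huniv
  let D := localDD huniv s hs hs'
  have hπ : ∀ i, Etale (π i).left := fun i => by
    haveI : Etale ((π i).left ≫ str (U i)) := by rw [w_str]; infer_instance
    exact Etale.of_comp (π i).left (str (U i))
  have hu : Presieve.ofArrows (fun i => (U i).left) (fun i => str (U i)) ∈ Scheme.fpqcPrecoverage X := by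
    refine Scheme.fppfPrecoverage_le_fpqcPrecoverage X ?_
    rw [Scheme.fppfPrecoverage, Scheme.ofArrows_mem_precoverage_iff]
    exact ⟨fun y => hcov y, fun i => ⟨inferInstance, inferInstance⟩⟩
  obtain ⟨U₀, ⟨e⟩⟩ := SchEffective.isEffective_of_isAffineHom _ hu D (fun i => by
    have := hfin i
    exact (inferInstance : IsAffineHom (π i).left))
  let E : ∀ i, pullback (str (U i)) U₀.hom ⟶ (A i).left := fun i => (e.hom.hom i).left
  have hE : ∀ i, E i ≫ (π i).left = pullback.fst _ _ := fun i => Over.w (e.hom.hom i)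
  haveI ei : ∀ i, IsIso (E i) := fun i => by
    haveI : IsIso ((e.hom).hom i) :=
      ⟨(e.inv).hom i, congrFun (congrArg SchDDFam.Hom.hom e.hom_inv_id) i,
        congrFun (congrArg SchDDFam.Hom.hom e.inv_hom_id) i⟩
    exact ((Over.forget _).mapIso (asIso ((e.hom).hom i))).isIso_hom
  have hprop : ∀ i, FEt.prop (pullback.fst (str (U i)) U₀.hom) := fun i => by
    rw [← hE i]
    haveI := hfin i
    haveI := hπ i
    exact (FEt.prop.cancel_left_of_respectsIso _ _).2 (FEt21.prop_of _)
  have hUprop : FEt.prop U₀.hom := by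
    let O : ι → X.Opens := fun i => ⟨Set.range (str (U i)), (str (U i)).isOpenMap.isOpen_range⟩
    have hO : TopologicalSpace.IsOpenCover O := TopologicalSpace.IsOpenCover.mk (eq_top_iff.2 fun y _ => by
      obtain ⟨i, hi⟩ := hcov y
      exact TopologicalSpace.Opens.mem_iSup.2 ⟨i, hi⟩)
    have main : ∀ (P : MorphismProperty Scheme.{u}) [IsZariskiLocalAtTarget P], AlgSp.FppfDescends P →
        (∀ i, P (pullback.fst (str (U i)) U₀.hom)) → P U₀.hom := by
      intro P _ hP hi
      refine IsZariskiLocalAtTarget.of_iSup_eq_top O hO.iSup_eq_top fun i => ?_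
      have hr : Set.range (str (U i)) ⊆ Set.range (O i).ι := by rw [Scheme.Opens.range_ι]; exact subset_rfl
      let u' := IsOpenImmersion.lift (O i).ι (str (U i)) hr
      have hu' : u' ≫ (O i).ι = str (U i) := IsOpenImmersion.lift_fac _ _ hr
      haveI : Etale u' := by
        haveI : Etale (u' ≫ (O i).ι) := by rw [hu']; infer_instance
        exact Etale.of_comp u' (O i).ι
      haveI : Surjective u' := ⟨fun z => by
        obtain ⟨w, hw⟩ : (O i).ι z ∈ Set.range (str (U i)) := z.2
        refine ⟨w, (O i).ι.isOpenEmbedding.injective ?_⟩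
        rw [← Scheme.Hom.comp_apply, hu']; exact hw⟩
      have sqr := isPullback_morphismRestrict U₀.hom (O i)
      let c' : pullback (str (U i)) U₀.hom ⟶ (U₀.hom ⁻¹ᵁ O i : Scheme.{u}) :=
        sqr.lift (pullback.fst _ U₀.hom ≫ u') (pullback.snd _ U₀.hom) (by
          rw [Category.assoc, hu']; exact pullback.condition)
      have sq : IsPullback c' (pullback.fst _ U₀.hom) (U₀.hom ∣_ O i) u' := by
        refine IsPullback.of_right (h₁₂ := (U₀.hom ⁻¹ᵁ O i).ι) (h₂₂ := (O i).ι) ?_ (sqr.lift_fst _ _ _) sqr.flip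
        rw [sqr.lift_snd, hu']
        exact (IsPullback.of_hasPullback (str (U i)) U₀.hom).flip
      exact hP (U₀.hom ∣_ O i) u' c' (pullback.fst _ U₀.hom) sq inferInstance inferInstance inferInstance (hi i)
    exact ⟨main _ AlgSp.fppfDescends_isFinite fun i => (hprop i).1,
      main _ AlgSp.fppfDescends_etale fun i => (hprop i).2⟩
  haveI := hUprop.1
  haveI := hUprop.2
  let V : X.Etale := Scheme.Etale.mk U₀.hom
  let B : ι → X.Etale := fun i => Scheme.Etale.mk (pullback.fst (str (U i)) U₀.hom ≫ str (U i))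
  let pr : ∀ i, B i ⟶ V := fun i =>
    MorphismProperty.Over.homMk (pullback.snd (str (U i)) U₀.hom) pullback.condition.symm
  let Ei : ∀ i, B i ⟶ A i := fun i => MorphismProperty.Over.homMk (E i) (by
    show E i ≫ str (A i) = pullback.fst _ _ ≫ str (U i)
    rw [← w_str (π i), ← Category.assoc, hE i])
  have hB : Sieve.generate (Presieve.ofArrows B pr) ∈ X.smallEtaleTopology V := by
    rw [mem_topology_iff]
    intro v
    obtain ⟨i, y, hy⟩ := hcov (U₀.hom v)
    obtain ⟨z, -, hz⟩ := Scheme.Pullback.exists_preimage_pullback (f := str (U i)) (g := U₀.hom) y v hy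
    exact ⟨B i, pr i, z, ⟨_, 𝟙 _, _, Presieve.ofArrows.mk i, Category.id_comp _⟩, hz⟩
  have hcomp : Presieve.Arrows.Compatible G.obj pr fun i => res G (Ei i) (a i) := by
    intro i j Z gi gj hg
    show res G gi (res G (Ei i) (a i)) = res G gj (res G (Ei j) (a j))
    let x₀ : Z.left ⟶ (U i).left := gi.left ≫ pullback.fst _ _
    let x₁ : Z.left ⟶ (U j).left := gj.left ≫ pullback.fst _ _
    have hgl : gi.left ≫ pullback.snd (str (U i)) U₀.hom = gj.left ≫ pullback.snd (str (U j)) U₀.hom :=
      congrArg (fun k : Z ⟶ V => k.left) hg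
    have hx : x₀ ≫ str (U i) = x₁ ≫ str (U j) := by
      simp only [x₀, x₁, Category.assoc, pullback.condition]
      rw [reassoc_of% hgl]
    let v : Lifts (((toDDFam fun i => str (U i)).obj U₀).obj i) x₀ := ⟨gi.left, rfl⟩
    let w : Lifts (D.obj i) x₀ := ⟨gi.left ≫ E i, by
      show (gi.left ≫ E i) ≫ (π i).left = _
      rw [Category.assoc, hE i]⟩
    have hcm := e.hom.comm x₀ x₁ hx v w rfl
    have hcan : ((((toDDFam fun i => str (U i)).obj U₀).φ x₀ x₁ hx) v).1 = gj.left :=
      pullback.hom_ext (pullback.lift_fst _ _ _) ((pullback.lift_snd _ _ _).trans hgl)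
    rw [hcan] at hcm
    let l : Z ⟶ rel U A i j := MorphismProperty.Over.homMk
      (pullback.lift w.1 x₁ (cond_of s hs hx w)) (by
        show pullback.lift _ _ _ ≫ pullback.fst _ _ ≫ str (A i) = str Z
        rw [pullback.lift_fst_assoc]
        exact w_str (gi ≫ Ei i))
    have hl : l ≫ s i j = gj ≫ Ei j := hom_left hcm
    refine (res_res G (Ei i) gi (a i)).trans (Eq.trans ?_ ((res_res G (s i j) l (a j)).trans
      ((congrArg (fun m => res G m (a j)) hl).trans (res_res G (Ei j) gj (a j)).symm)))
    rw [hs', res_res]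
    congr 1
    exact hom_left (pullback.lift_fst _ _ _).symm
  have hsheaf := (isSheaf_iff_isSheaf_of_type _ _).1 G.property _ hB
  rw [← Presieve.isSheafFor_iff_generate, Presieve.isSheafFor_arrows_iff] at hsheaf
  obtain ⟨t, ht, -⟩ := hsheaf _ hcomp
  replace ht : ∀ i, res G (pr i) t = res G (Ei i) (a i) := ht
  let η : repPsh V ⟶ G.obj :=
    { app := fun T => ↾fun g => res G (T := V) (T' := T.unop) g.down t
      naturality := fun T T' k => by
        ext g
        exact (res_res G g.down k.unop t).symm }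
  have chart : ∀ (T : X.Etale) (z : T.left), ∃ (i : ι) (W : X.Etale) (k : W ⟶ T) (_ : W ⟶ U i)
      (w : W.left), k.left w = z := fun T z => by
    obtain ⟨i, y, hy⟩ := hcov (str T z)
    haveI : Etale (str T) := T.prop
    obtain ⟨w, hw, -⟩ := Scheme.Pullback.exists_preimage_pullback (f := str T) (g := str (U i)) z y hy.symm
    exact ⟨i, Scheme.Etale.mk (pullback.fst (str T) (str (U i)) ≫ str T),
      MorphismProperty.Over.homMk (pullback.fst _ _) rfl,
      MorphismProperty.Over.homMk (pullback.snd _ _) pullback.condition.symm, w, hw⟩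
  haveI : Presheaf.IsLocallySurjective X.smallEtaleTopology η := ⟨fun {T} σ => by
    rw [mem_topology_iff]
    intro z
    obtain ⟨i, W, k, x, w, hw⟩ := chart T z
    obtain ⟨g, hg⟩ := (huniv i W).2 (x, res G k σ)
    let b : W ⟶ B i := MorphismProperty.Over.homMk (g.left ≫ inv (E i)) (by
      show (g.left ≫ inv (E i)) ≫ pullback.fst _ _ ≫ str (U i) = str W
      rw [← hE i]
      simp only [Category.assoc, IsIso.inv_hom_id_assoc, w_str])
    have hb : b ≫ Ei i = g := hom_left ((Category.assoc _ _ _).trans (by simp [Ei]))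
    refine ⟨W, k, w, ⟨ULift.up (b ≫ pr i), ?_⟩, hw⟩
    show res G (b ≫ pr i) t = res G k σ
    rw [← res_res, ht, res_res, hb]
    exact congrArg Prod.snd hg⟩
  haveI : Presheaf.IsLocallyInjective X.smallEtaleTopology η := ⟨fun {T} p p' h => by
    rw [mem_topology_iff]
    intro z
    obtain ⟨i, W, k, x, w, hw⟩ := chart T.unop z
    replace h : res G p.down t = res G p'.down t := h
    let lft : (W ⟶ V) → (W ⟶ B i) := fun g => MorphismProperty.Over.homMk
      (pullback.lift x.left g.left ((w_str x).trans (w_str g).symm)) (by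
        show pullback.lift _ _ _ ≫ pullback.fst _ _ ≫ str (U i) = str W
        rw [pullback.lift_fst_assoc]; exact w_str x)
    have hl : ∀ g, lft g ≫ pr i = g := fun g => hom_left (pullback.lift_snd _ _ _)
    have hπl : ∀ g, (lft g ≫ Ei i) ≫ π i = x := fun g => hom_left (by
      show (pullback.lift _ _ _ ≫ E i) ≫ (π i).left = x.left
      rw [Category.assoc, hE i]; exact pullback.lift_fst _ _ _)
    have h1 : lft (k ≫ p.down) ≫ Ei i = lft (k ≫ p'.down) ≫ Ei i := by
      refine (huniv i W).1 (Prod.ext ((hπl _).trans (hπl _).symm) ?_)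
      show res G (lft _ ≫ Ei i) (a i) = res G (lft _ ≫ Ei i) (a i)
      rw [← res_res, ← ht, res_res, hl, ← res_res G (Ei i), ← ht, res_res, hl, ← res_res, h, res_res]
    have h2 : k ≫ p.down = k ≫ p'.down := by
      have h3 := congrArg (fun m : W ⟶ A i => m.left) h1
      simp only [MorphismProperty.Comma.comp_left, Ei] at h3
      have h4 : lft (k ≫ p.down) = lft (k ≫ p'.down) := hom_left ((cancel_mono (E i)).1 h3)
      rw [← hl (k ≫ p.down), h4, hl]
    exact ⟨W, k, w, congrArg ULift.up h2, hw⟩⟩
  exact ⟨V, hUprop.1, nonempty_iso_of_W (G := repSheaf V) (H := G) (𝟙 _) η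
    (X.smallEtaleTopology.W.id_mem _) (X.smallEtaleTopology.W_of_isLocallyBijective η)⟩

end Descent

/-- A sheaf locally isomorphic to trivial covers is represented by a finite étale scheme. -/
theorem exists_finite_iso (G : EtDesc.Sh X) {ι : Type u} (U : ι → X.Etale) (hcov : EtCoh.Covers U)
    (h : ∀ i, ∃ n, Nonempty (G.over (U i) ≅ (repSheaf (triv X n)).over (U i))) :
    ∃ (V : X.Etale) (_ : IsFinite V.hom), Nonempty (G ≅ repSheaf V) := by
  have h' : ∀ i, ∃ (A : X.Etale) (π : A ⟶ U i) (a : G.obj.obj (op A)), IsFinite π.left ∧ IsUniv G π a :=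
    fun i => by
      obtain ⟨n, ⟨e⟩⟩ := h i
      exact exists_univ G (U i) n e
  choose A π a hfin huniv using h'
  obtain ⟨V, hV, ⟨i⟩⟩ := exists_finite_iso_of_univ huniv hcov hfin
  exact ⟨V, hV, ⟨i.symm⟩⟩

end GrothLib.FLCRep18
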