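import Groth.Agent.Lib.FLCRep18.Descent
import Groth.Agent.Lib.FEt21.Splitting
import Mathlib.CategoryTheory.Sites.Whiskering
import Mathlib.AlgebraicGeometry.Limits

/-!
# Finite locally constant sheaves and finite étale schemes
-/

set_option autoImplicit false
set_option backward.isDefEq.respectTransparency false
set_option backward.isDefEq.respectTransparency.types false
set_option linter.style.haveILetI false

universe u

open CategoryTheory CategoryTheory.Limits AlgebraicGeometry Opposite
open GrothLib.EtRepSh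

noncomputable section

namespace GrothLib.FLCRep18

variable {S : Scheme.{u}}

/-- The sheaf attached to an étale scheme is the representable one. -/
def repShIso (U : S.Etale) : EtDesc.repSh U ≅ repSheaf U := (sheafificationIso (repSheaf U)).symm

theorem exists_finite_repSh_iso_of_isFinLocConstSet (F : EtDesc.Sh S)
    (hF : CohProp.IsFinLocConstSet F) :
    ∃ (U : S.Etale) (_ : IsFinite U.hom), Nonempty (F ≅ EtDesc.repSh U) := by
  obtain ⟨ι, U, hU, h⟩ := hF
  obtain ⟨V, hV, ⟨e⟩⟩ := exists_finite_iso F U hU fun i => by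
    obtain ⟨M, hM, ⟨e⟩⟩ := h i
    obtain ⟨c⟩ := constSh_iso_triv S M
    exact ⟨Nat.card M, ⟨e ≪≫ (S.smallEtaleTopology.overPullback (Type (u + 1)) (U i)).mapIso c⟩⟩
  exact ⟨V, hV, ⟨e ≪≫ (repShIso V).symm⟩⟩

/-- A finite étale cover is split near each point. -/
theorem exists_split {X : Scheme.{u}} (f : X ⟶ S) [Etale f] [IsFinite f] (s : S) :
    ∃ (Y : Scheme.{u}) (ψ : Y ⟶ S) (_ : Etale ψ) (n : ℕ)
      (θ : pullback f ψ ≅ pullback (trivHom S n) ψ),
      s ∈ Set.range ψ ∧ θ.hom ≫ pullback.snd _ _ = pullback.snd f ψ := by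
  let V : S.Opens := ⟨f.finrank ⁻¹' {f.finrank s},
    (Scheme.Hom.isLocallyConstant_finrank f).isOpen_fiber _⟩
  let f' := pullback.snd f V.ι
  have hd : ∀ v, f'.finrank v = f.finrank s := fun v => by
    refine (Scheme.Hom.finrank_pullback_snd f V.ι v).trans ?_
    exact v.2
  obtain ⟨Y, ψ', hψ', hψd, sec, hsec, hdis⟩ :=
    FEt21.exists_splitting (f.finrank s) f' (FEt21.prop_of f') hd
  haveI := hψ'.1
  haveI := hψ'.2
  let ψ := ψ' ≫ V.ι
  haveI : Etale ψ := inferInstance
  let c : pullback f' ψ' ≅ pullback f ψ := pullbackLeftPullbackSndIso f V.ι ψ'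
  have hc : c.hom ≫ pullback.snd f ψ = pullback.snd f' ψ' := pullbackLeftPullbackSndIso_hom_snd f V.ι ψ'
  let d := f.finrank s
  have hd' : ∀ y, (pullback.snd f' ψ').finrank y = d := fun y =>
    (Scheme.Hom.finrank_pullback_snd f' ψ' y).trans (hd _)
  obtain ⟨e₁, he₁⟩ := FEt21.exists_iso_of_sections (pullback.snd f' ψ') d hd' sec hsec hdis
  have hi : IsIso (Sigma.desc fun m => Sigma.ι (fun _ : Fin d => S) m) := by
    rw [show (Sigma.desc fun m => Sigma.ι (fun _ : Fin d => S) m) = 𝟙 _ from
      Sigma.hom_ext _ _ fun m => by simp]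
    infer_instance
  let σ : Fin d → (Y ⟶ pullback (trivHom S d) ψ) := fun m =>
    pullback.lift (ψ ≫ Sigma.ι (fun _ : Fin d => S) m) (𝟙 Y)
      (by rw [Category.assoc, ι_trivHom, Category.comp_id, Category.id_comp])
  let p₂ := pullback.snd (trivHom S d) ψ
  haveI hiso := FinitaryPreExtensive.isIso_sigmaDesc_fst (fun m => Sigma.ι (fun _ : Fin d => S) m)
    (pullback.fst (trivHom S d) ψ) hi
  have hσ : ∀ m, ∃ k : Y ≅ pullback (pullback.fst (trivHom S d) ψ) (Sigma.ι (fun _ : Fin d => S) m),
      k.hom ≫ pullback.fst _ _ = σ m := fun m => by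
    refine ⟨⟨pullback.lift (σ m) ψ (pullback.lift_fst _ _ _), pullback.fst _ _ ≫ p₂, ?_, ?_⟩,
      pullback.lift_fst _ _ _⟩
    · rw [pullback.lift_fst_assoc]; exact pullback.lift_snd _ _ _
    · have e : pullback.fst (pullback.fst (trivHom S d) ψ) (Sigma.ι (fun _ : Fin d => S) m) ≫ p₂ ≫ ψ =
          pullback.snd _ _ := by
        have := pullback.condition (f := pullback.fst (trivHom S d) ψ) (g := Sigma.ι (fun _ : Fin d => S) m)
        simp only [p₂]
        rw [← pullback.condition, reassoc_of% this, ι_trivHom, Category.comp_id]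
      apply pullback.hom_ext
      · apply pullback.hom_ext
        · simp only [Category.assoc, pullback.lift_fst, σ, Category.id_comp]
          rw [reassoc_of% e]
          exact pullback.condition.symm
        · simp [σ, p₂]
      · simp only [Category.assoc, pullback.lift_snd, Category.id_comp]
        exact e
  choose k hk using hσ
  haveI : IsIso (Sigma.desc σ) := by
    have : Sigma.desc σ = (Sigma.mapIso k).hom ≫ Sigma.desc fun m =>
        pullback.fst (pullback.fst (trivHom S d) ψ) (Sigma.ι (fun _ : Fin d => S) m) :=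
      Sigma.hom_ext _ _ fun m => by simp [hk]
    rw [this]; infer_instance
  refine ⟨Y, ψ, inferInstance, d, c.symm ≪≫ e₁ ≪≫ asIso (Sigma.desc σ), ?_, ?_⟩
  · haveI : Surjective ψ' := by
      rw [← Scheme.Hom.one_le_finrank_iff_surjective]
      exact fun y => by rw [hψd]; exact Nat.factorial_pos _
    obtain ⟨y, hy⟩ := ψ'.surjective ⟨s, rfl⟩
    exact ⟨y, by rw [Scheme.Hom.comp_apply, hy]; rfl⟩
  · have h2 : e₁.inv ≫ pullback.snd f' ψ' = Sigma.desc σ ≫ p₂ := Sigma.hom_ext _ _ fun m => by
      simp [reassoc_of% (he₁ m), hsec, σ, p₂]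
    simp only [Iso.trans_hom, Iso.symm_hom, asIso_hom, Category.assoc]
    rw [← h2, e₁.hom_inv_id_assoc, ← hc, c.inv_hom_id_assoc]

section Slice

variable {U C D : S.Etale} (φ : pullback (str C) (str U) ⟶ pullback (str D) (str U))
  (hφ : φ ≫ pullback.snd _ _ = pullback.snd _ _)

include hφ in
theorem trans_w (T : Over U) (g : T.left ⟶ C) :
    (pullback.lift g.left T.hom.left ((w_str g).trans (w_str T.hom).symm) ≫ φ ≫ pullback.fst _ _) ≫ str D =
      str T.left := by
  simp only [Category.assoc]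
  rw [pullback.condition, reassoc_of% hφ, pullback.lift_snd_assoc]
  exact w_str T.hom

/-- Points over `U` transported along a map over `U`. -/
def transPt (T : Over U) (g : T.left ⟶ C) : T.left ⟶ D :=
  MorphismProperty.Over.homMk _ (trans_w φ hφ T g)

theorem transPt_left (T : Over U) (g : T.left ⟶ C) : (transPt φ hφ T g).left =
    pullback.lift g.left T.hom.left ((w_str g).trans (w_str T.hom).symm) ≫ φ ≫ pullback.fst _ _ := rfl

theorem lift_transPt (T : Over U) (g : T.left ⟶ C) :
    pullback.lift (transPt φ hφ T g).left T.hom.left ((w_str _).trans (w_str T.hom).symm) =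
      pullback.lift g.left T.hom.left ((w_str g).trans (w_str T.hom).symm) ≫ φ := by
  apply pullback.hom_ext
  · rw [pullback.lift_fst, transPt_left, Category.assoc]
  · rw [pullback.lift_snd, Category.assoc, hφ, pullback.lift_snd]

theorem transPt_transPt (ψ : pullback (str D) (str U) ⟶ pullback (str C) (str U))
    (hψ : ψ ≫ pullback.snd _ _ = pullback.snd _ _) (h : φ ≫ ψ = 𝟙 _) (T : Over U) (g : T.left ⟶ C) :
    transPt ψ hψ T (transPt φ hφ T g) = g := hom_left (by
  rw [transPt_left, lift_transPt φ hφ, Category.assoc, reassoc_of% h, pullback.lift_fst])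

theorem transPt_natural {T T' : Over U} (k : T' ⟶ T) (g : T.left ⟶ C) :
    transPt φ hφ T' (k.left ≫ g) = k.left ≫ transPt φ hφ T g := hom_left (by
  rw [MorphismProperty.Comma.comp_left, transPt_left, transPt_left, ← Category.assoc k.left.left]
  congr 1
  apply pullback.hom_ext
  · rw [pullback.lift_fst, Category.assoc, pullback.lift_fst]; rfl
  · simp only [pullback.lift_snd, Category.assoc]
    exact (congrArg (fun m : T'.left ⟶ U => m.left) (Over.w k)).symm)

end Slice

/-- Étale schemes isomorphic over `U` have isomorphic restrictions to `U`. -/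
theorem nonempty_over_iso {U C D : S.Etale} (φ : pullback (str C) (str U) ≅ pullback (str D) (str U))
    (hφ : φ.hom ≫ pullback.snd _ _ = pullback.snd _ _) :
    Nonempty ((repSheaf C).over U ≅ (repSheaf D).over U) := by
  have hφ' : φ.inv ≫ pullback.snd (str C) (str U) = pullback.snd _ _ := by rw [← hφ, φ.inv_hom_id_assoc]
  let eqv : ∀ T : Over U, (T.left ⟶ C) ≃ (T.left ⟶ D) := fun T =>
    Equiv.mk (transPt φ.hom hφ T) (transPt φ.inv hφ' T)
      (transPt_transPt φ.hom hφ φ.inv hφ' φ.hom_inv_id T) (transPt_transPt φ.inv hφ' φ.hom hφ φ.inv_hom_id T)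
  let e : (Over.forget U).op ⋙ repPsh C ≅ (Over.forget U).op ⋙ repPsh D :=
    NatIso.ofComponents (fun T => Equiv.toIso (Equiv.ulift.trans ((eqv T.unop).trans Equiv.ulift.symm)))
      (fun {T T'} k => by
        ext g
        exact congrArg ULift.up (transPt_natural φ.hom hφ k.unop g.down))
  exact ⟨(fullyFaithfulSheafToPresheaf _ _).preimageIso e⟩

theorem isFinLocConstSet_repSh_of_finite_etale {X : Scheme.{u}} (f : X ⟶ S) [Etale f] [IsFinite f] :
    CohProp.IsFinLocConstSet (EtDesc.repSh (Scheme.Etale.mk f)) := by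
  choose Y ψ hψ n θ hs hθ using exists_split f
  haveI := hψ
  refine ⟨S, fun s => Scheme.Etale.mk (ψ s), fun s => ⟨s, hs s⟩, fun s =>
    ⟨ULift.{u + 1} (Fin (n s)), inferInstance, ?_⟩⟩
  obtain ⟨c⟩ := constSh_iso_triv S (ULift.{u + 1} (Fin (n s)))
  have hn : Nat.card (ULift.{u + 1} (Fin (n s))) = n s := by simp
  rw [hn] at c
  obtain ⟨e'⟩ := nonempty_over_iso (U := Scheme.Etale.mk (ψ s)) (C := Scheme.Etale.mk f)
    (D := triv S (n s)) (θ s) (hθ s)
  let O := S.smallEtaleTopology.overPullback (Type (u + 1)) (Scheme.Etale.mk (ψ s))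
  exact ⟨O.mapIso (repShIso _) ≪≫ e' ≪≫ (O.mapIso c).symm⟩

theorem isFiniteLocallyConstant_representable (F : EtCoh.Ab S) (h : EtCoh.IsFiniteLocallyConstant F) :
    ∃ (U : S.Etale) (_ : IsFinite U.hom),
      Nonempty (F.obj ⋙ forget AddCommGrpCat.{u + 1} ≅ yoneda.obj U ⋙ uliftFunctor.{u + 1}) := by
  obtain ⟨ι, U, hU, h⟩ := h
  let G : EtDesc.Sh S := ⟨F.obj ⋙ forget AddCommGrpCat.{u + 1},
    GrothendieckTopology.HasSheafCompose.isSheaf F.obj F.property⟩
  obtain ⟨V, hV, ⟨e⟩⟩ := exists_finite_iso G U hU fun i => by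
    obtain ⟨M, _, _, ⟨e⟩⟩ := h i
    let J := S.smallEtaleTopology.over (U i)
    let A : AddCommGrpCat.{u + 1} := AddCommGrpCat.of (ULift.{u + 1} M)
    let α₀ : (Functor.const (Over (U i))ᵒᵖ).obj A ⟶ (EtCoh.restr F (U i)).obj :=
      toSheafify J ((Functor.const _).obj A) ≫ e.inv.hom
    haveI : IsIso e.inv.hom := ((sheafToPresheaf J AddCommGrpCat.{u + 1}).mapIso e.symm).isIso_hom
    haveI : Presheaf.IsLocallyInjective J α₀ :=
      (J.W_iff_isLocallyBijective α₀).1 (MorphismProperty.RespectsIso.postcomp _ e.inv.hom _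
        (J.W_toSheafify _)) |>.1
    haveI : Presheaf.IsLocallySurjective J α₀ :=
      (J.W_iff_isLocallyBijective α₀).1 (MorphismProperty.RespectsIso.postcomp _ e.inv.hom _
        (J.W_toSheafify _)) |>.2
    let α : (Functor.const (Over (U i))ᵒᵖ).obj (ULift.{u + 1} M) ⟶ (Over.forget (U i)).op ⋙ G.obj :=
      { app := fun T => (Functor.whiskerRight α₀ (forget AddCommGrpCat.{u + 1})).app T
        naturality := fun T T' k => by
          ext x
          exact NatTrans.naturality_apply α₀ k x }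
    haveI : Presheaf.IsLocallyInjective J α :=
      ⟨fun x y hxy => Presheaf.equalizerSieve_mem J α₀ x y hxy⟩
    haveI : Presheaf.IsLocallySurjective J α :=
      ⟨fun x => Presheaf.imageSieve_mem J α₀ x⟩
    exact ⟨Nat.card (ULift.{u + 1} M), over_iso_triv S G (U i) α (J.W_of_isLocallyBijective α)⟩
  exact ⟨V, hV, ⟨(sheafToPresheaf _ _).mapIso e⟩⟩

end GrothLib.FLCRep18
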